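import Mathlib
import Cfsg.Agent.Lib.Helper56.TC

set_option autoImplicit false
set_option maxRecDepth 1000000

namespace Cfsg.Agent.Lib.Helper19.M11B

open Cfsg.Agent.Lib.Helper56.TC Cfsg.Agent.Lib.Helper56.TC.Tabs

noncomputable def nA0 : List ℕ := [
0x1a0680402f847da730b03ac100ba03f009cf757e0000d80fc02d3fd40805bc64004b0402d56796c23bb957280b619ce201f8002015e50f0328358b403f0004029623806500fc0007e00080518369a8a04028436f4407e0184c81b40804faae3300fc0248b036807e000804d01f8042a205502012c4b49803f00fc0001a0203500fc0010097a4781940804a01f80046743f00006807e000406904024fe000050663641009175d67a7480ea01f80020118080d180a02d40804602033ce6b86fa10368100881d85c64bec527202d00fc001008603f00a31c16901f80020104080cd2c600d20803f12b604c6d8f223016407e0003f000401ffe0000480fc02d2caa0803efc0000901f8031572810077f8000120803912a5d0101972a8016407e0008038020327e000148200e0080c76595ebc880d901f800101881006f208009208036129db80fc0229c0364080c203f000401b437006480fc001006a1133cfc000290401a810180080bfb0600b203f000202f0200cff00002410064251b30202eea5808c8101702a28808032ace80c904018c53ef421e73ad901320405b0202d0200c2e9b01241005e24db001f80592806cde4320080b20802fa8a014901f8000fc001005d41e80900802d1265700fc0271d036008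0ae03f0004016cc22064065d581005803f00cec80e80401601015807e01f80003003f0004015810153f0000a03208e03f00040156d5806400fc00100536d2ccfc000280401480fc00080a7f800030195520401400fc0343903a01005004052b2763fe0000c00fc00080a008027b8600480ca270200980809f1ca01d008026020270101362270160080980404b04012ef0a0a40200904964b10c34fc000180c92482008c07e01f8000500802302024810123f00006007e0004047040116e460a40639141004204046b66c0e804010810114080895ce00b018d420401000fc027aa039c100400404202020cd2a02b8101000807e0801ffc000070201f00fc001003df80000e0801d1250f0100f781f015c080780403b0400efe0000380fc00080720801cfc000070400d89247008071690832e040370201b02006e31b051c317680801a0201af2040338200680806803f00fc0001701f800100c810033f80000e080181240c8100c7899015c080600402f0400c7e0000380fc000805a08017fc000060400b091e5c08059f80002c18aaa0400a8100af99703981002a0402a02014fe0000b06269c1002804028fc000260400a01009c0804df80002c040250201202004fb000318311440800a02011f4140730200280804404021ea2815601f8002004807e01f80004a080120200f80fc03f0000540803c0401d04008f7240628100700803608010fc0000504007891a4008035e0000aa03f000200b020037f000010100182458d0200af91a02a061c4c1001604014f4040e40400581004c20a19f80002803f0001f80020018406921030c2208005020097b0a071820014080236448ff8141530200801003c10009f420186040190200c020023f00001430713f830904003fe000020200184840e0400afc000140c14402000c08013f800046080030200401003bf00004c0801a0400c040017e00001020004482040400bfc000120200381001810003f8000041818404000010017f000084100000400402001fe00008810008080038c080fc00000]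

noncomputable def fA0 : List ℕ := [
0x2aa08f4997aec19e953183989b8e1956d55247a0491ae976122a1015aa60430094840000]

end Cfsg.Agent.Lib.Helper19.M11B
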