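import Mathlib
import Cfsg.Agent.Lib.Helper56.TC
import Cfsg.Agent.Lib.Helper56.TCFast
import Cfsg.Agent.Lib.Helper19.M11B.DA0
set_option autoImplicit false
set_option maxRecDepth 1000000

namespace Cfsg.Agent.Lib.Helper19.M11B

open Cfsg.Agent.Lib.Helper56.TC Cfsg.Agent.Lib.Helper56.TC.Tabs

noncomputable def nA : List (List ℕ) := [nA0]

noncomputable def fA : List (List ℕ) := [fA0]

/-- The certificate data. -/
noncomputable def T : Tabs where
  K := 3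
  N := 11
  N' := 107
  INF := 126
  fuel := 4
  inv := fun l => Tabs.nth 0 [0, 2, 1] l
  tg := slotFld2 nA 180 91 2475880078570760549798248447 3 21 28 127 (fun _ => 0)
  rk := slotFld2 nA 180 91 2475880078570760549798248447 3 21 35 127
    (fun x => Nat.rec (motive := fun _ => ℕ) 0 (fun _ _ => 126) x)
  jc := slotFld2 nA 180 91 2475880078570760549798248447 3 21 42 127
    (fun x => Nat.rec (motive := fun _ => ℕ) 3 (fun _ _ => 0) x)
  dd := fldA nA 180 91 2475880078570760549798248447 0 15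
  dl := fldA nA 180 91 2475880078570760549798248447 4 3
  qj := fldA nA 180 91 2475880078570760549798248447 6 255
  mp := fldA nA 180 91 2475880078570760549798248447 14 127
  mt := fldA nA 180 91 2475880078570760549798248447 21 127
  tb := tbFld2 fA 630 26 67108863 4 14 15
  rels1 := [[1, 1, 1, 1],
    [0, 1, 0, 1, 0, 1, 0, 1, 0, 1, 0, 1, 0, 1, 0, 1, 0, 1, 0, 1, 0, 1],
    [0, 1, 1, 0, 1, 1, 0, 1, 1, 0, 1, 1, 0, 1, 1, 0, 1, 1],
    [0, 1, 0, 1, 0, 2, 0, 1, 0, 1, 1, 0, 2, 0, 1, 0, 2, 0, 2]]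
  subs := [[0],
    [2, 0, 1, 0, 1, 0, 2, 0, 1]]
  rx := [[1, 1, 1, 1],
    [0, 1, 0, 1, 0, 1, 0, 1, 0, 1, 0, 1, 0, 1, 0, 1, 0, 1, 0, 1, 0, 1],
    [0, 1, 1, 0, 1, 1, 0, 1, 1, 0, 1, 1, 0, 1, 1, 0, 1, 1],
    [0, 1, 0, 1, 0, 2, 0, 1, 0, 1, 1, 0, 2, 0, 1, 0, 2, 0, 2],
    [0, 3],
    [2, 0, 1, 0, 1, 0, 2, 0, 1, 4]]
  RB := 23
  tpl := fldA fA 630 26 67108863 0 3
  tdep := fldA fA 630 26 67108863 2 7
  ol := fldA fA 630 26 67108863 5 1
  oc := fldA fA 630 26 67108863 6 1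
  op := fldA fA 630 26 67108863 7 15
  odep := fldA fA 630 26 67108863 11 7
  orep := fun c => Tabs.nth 0 [0, 1] c

end Cfsg.Agent.Lib.Helper19.M11B
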